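import Groth.Prelude.Def_SGA7a
import Mathlib

/-!
# Tame extensions of a field all of whose automorphisms are inertia
-/

set_option autoImplicit false
set_option linter.style.haveILetI false
set_option linter.unusedSectionVars false
set_option maxHeartbeats 1000000

universe u

open IsLocalRing Polynomial

namespace Groth.Agent.TameUnique

variable {R K Ω : Type u} [CommRing R] [IsDomain R] [IsDiscreteValuationRing R] [Field K] [Algebra R K]
  [IsFractionRing R K] [Field Ω] [Algebra K Ω] [IsSepClosure K Ω] [Algebra R Ω] [IsScalarTower R K Ω]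
  {W : ValuationSubring Ω} (hW : SGA7.LiesOver K R W) (hI : ∀ σ : Ω ≃ₐ[K] Ω, SGA7.IsInertia W σ)

/-- `R` maps into `W`. -/
noncomputable def toW : R →+* W :=
  (algebraMap R Ω).codRestrict W.toSubring fun x => by
    rw [IsScalarTower.algebraMap_apply R K Ω]; exact hW.1 x

include hW in
theorem valuation_lt (x : R) : W.valuation (algebraMap R Ω x) < 1 ↔ x ∈ maximalIdeal R := by
  refine ⟨fun h => by_contra fun hx => ?_, fun h => by
    rw [IsScalarTower.algebraMap_apply R K Ω]; exact hW.2 x h⟩
  have hu : IsUnit (toW hW x) := (notMem_maximalIdeal.1 hx).map _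
  exact h.ne ((W.valuation_eq_one_iff _).1 hu)

theorem valuation_lt_iff (x : W) : W.valuation (x : Ω) < 1 ↔ x ∈ maximalIdeal W :=
  (W.valuation_lt_one_iff x).symm

include hW in
theorem mem_of_isIntegral {x : Ω} (hx : IsIntegral R x) : x ∈ W := by
  letI : Algebra R W := (toW hW).toAlgebra
  haveI : IsScalarTower R W Ω := IsScalarTower.of_algebraMap_eq fun _ => rfl
  obtain ⟨y, hy⟩ := IsIntegrallyClosed.isIntegral_iff.1 (hx.tower_top (A := W))
  exact hy ▸ y.2

include hW hI in
/-- An automorphism fixes every `r`-th root of a fixed unit. -/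
theorem fixed {r : ℕ} (hrk : (r : ResidueField R) ≠ 0) (σ : Ω ≃ₐ[K] Ω) (y : Ω) (hy : W.valuation y = 1)
    (hfix : σ (y ^ r) = y ^ r) : σ y = y := by
  have hy0 : y ≠ 0 := fun h => by simp [h] at hy
  have hyW : y ∈ W := (W.valuation_le_one_iff y).1 hy.le
  obtain ⟨hσW, hlt⟩ := hI σ y hyW
  by_contra hne
  let ω := σ y / y
  have hω : ω ^ r = 1 := by rw [div_pow, ← map_pow, hfix, div_self (pow_ne_zero _ hy0)]
  have h1 : W.valuation (ω - 1) < 1 := by
    rwa [show ω - 1 = (σ y - y) / y by rw [sub_div, div_self hy0], map_div₀, hy, div_one]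
  have hωW : ω ∈ W := (W.valuation_le_one_iff ω).1 (by
    rw [map_div₀, hy, div_one]; exact (W.valuation_le_one_iff _).2 hσW)
  have hsum : ∑ i ∈ Finset.range r, ω ^ i = 0 := by
    refine (mul_eq_zero.1 ((geom_sum_mul ω r).trans (by rw [hω, sub_self]))).resolve_right ?_
    exact fun h => hne ((div_eq_one_iff_eq hy0).1 (sub_eq_zero.1 h))
  let w : W := ⟨ω, hωW⟩
  have hw1 : residue W w = 1 := by
    rw [← map_one (residue W), ← sub_eq_zero, ← map_sub, residue_eq_zero_iff, ← valuation_lt_iff]
    exact h1
  have hru : IsUnit (toW hW (r : R)) := by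
    refine IsUnit.map _ (notMem_maximalIdeal.1 fun h => hrk ?_)
    rw [← map_natCast (residue R), residue_eq_zero_iff]
    exact h
  have h2 : residue W (∑ i ∈ Finset.range r, w ^ i) = residue W (toW hW (r : R)) := by
    simp [hw1]
  have h3 : (∑ i ∈ Finset.range r, w ^ i) = 0 := Subtype.ext (by push_cast; simpa using hsum)
  rw [h3, map_zero] at h2
  exact (hru.map (residue W)).ne_zero h2.symm

include hW hI in
/-- Modulo `W`, the minimal polynomial of an integral element is a power of a linear polynomial. -/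
theorem map_minpoly (c : Ω) (hc : IsIntegral R c) :
    ((minpoly R c).map ((residue W).comp (toW hW))) =
      (X - C (residue W ⟨c, mem_of_isIntegral hW hc⟩)) ^ (minpoly R c).natDegree := by
  classical
  haveI : IsGalois K Ω := IsSepClosure.isGalois
  have hm : minpoly K c = (minpoly R c).map (algebraMap R K) := minpoly.isIntegrallyClosed_eq_field_fractions' K hc
  have hmon := minpoly.monic hc
  have hsplit : ((minpoly R c).map (algebraMap R Ω)).Splits := by
    rw [IsScalarTower.algebraMap_eq R K Ω, ← Polynomial.map_map, ← hm]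
    exact Normal.splits inferInstance c
  have hroots : ∀ z ∈ ((minpoly R c).map (algebraMap R Ω)).roots, z ∈ W ∧ W.valuation (z - c) < 1 := by
    intro z hz
    have h1 : minpoly K c = minpoly K z := by
      refine minpoly.eq_of_irreducible_of_monic (minpoly.irreducible hc.tower_top) ?_ (minpoly.monic hc.tower_top)
      rw [hm, Polynomial.aeval_map_algebraMap, ← Polynomial.eval_map_algebraMap]
      exact (Polynomial.mem_roots'.1 hz).2
    obtain ⟨σ, hσ⟩ := Normal.minpoly_eq_iff_mem_orbit (E := Ω) |>.1 h1.symm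
    subst hσ
    exact hI σ c (mem_of_isIntegral hW hc)
  let rts : Multiset W := ((minpoly R c).map (algebraMap R Ω)).roots.pmap (fun z hz => (⟨z, hz⟩ : W))
    fun z hz => (hroots z hz).1
  have hval : rts.map Subtype.val = ((minpoly R c).map (algebraMap R Ω)).roots := by
    simp [rts, Multiset.map_pmap, Multiset.pmap_eq_map]
  have hfact : (minpoly R c).map (toW hW) = (rts.map fun z => X - C z).prod := by
    apply Polynomial.map_injective W.subtype Subtype.val_injective
    rw [Polynomial.map_map, Polynomial.map_multiset_prod, Multiset.map_map]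
    refine (hsplit.eq_prod_roots_of_monic (hmon.map _)).trans ?_
    rw [← hval, Multiset.map_map]
    simp
  have hcard : Multiset.card rts = (minpoly R c).natDegree := by
    rw [Multiset.card_pmap, ← hsplit.natDegree_eq_card_roots, hmon.natDegree_map]
  rw [← Polynomial.map_map, hfact, Polynomial.map_multiset_prod, Multiset.map_map, ← hcard,
    ← Multiset.prod_replicate, ← Multiset.map_const']
  congr 1
  refine Multiset.map_congr rfl fun z hz => ?_
  simp only [Function.comp_apply, Polynomial.map_sub, Polynomial.map_X, Polynomial.map_C]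
  congr 2
  rw [← sub_eq_zero, ← map_sub, residue_eq_zero_iff, ← valuation_lt_iff]
  exact (hroots z (by rw [← hval]; exact Multiset.mem_map_of_mem _ hz)).2

include hW hI in
/-- Residues of integral elements of degree prime to the residue characteristic come from `R`. -/
theorem exists_residue (c : Ω) (hc : IsIntegral R c) (hd : (((minpoly R c).natDegree : ℕ) : ResidueField R) ≠ 0) :
    ∃ a : R, W.valuation (c - algebraMap R Ω a) < 1 := by
  classical
  set d := (minpoly R c).natDegree
  have hdpos : 0 < d := minpoly.natDegree_pos hc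
  have hu : IsUnit (d : R) := notMem_maximalIdeal.1 fun h => hd (by
    rw [← map_natCast (residue R), residue_eq_zero_iff]; exact h)
  obtain ⟨v, hv⟩ := hu
  refine ⟨-(↑v⁻¹ * (minpoly R c).coeff (d - 1)), ?_⟩
  have h := congrArg Polynomial.nextCoeff (map_minpoly hW hI c hc)
  rw [Polynomial.Monic.nextCoeff_pow (monic_X_sub_C _), nextCoeff_X_sub_C] at h
  have hn : ((minpoly R c).map ((residue W).comp (toW hW))).nextCoeff =
      residue W (toW hW ((minpoly R c).coeff (d - 1))) := by
    rw [nextCoeff, if_neg (by rw [(minpoly.monic hc).natDegree_map]; omega), coeff_map,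
      (minpoly.monic hc).natDegree_map]
    rfl
  rw [hn, nsmul_eq_mul] at h
  rw [map_neg, sub_neg_eq_add]
  let cW : W := ⟨c, mem_of_isIntegral hW hc⟩
  have h2 : residue W (cW + toW hW (↑v⁻¹ * (minpoly R c).coeff (d - 1))) = 0 := by
    rw [map_add, map_mul, map_mul, h]
    have h3 : residue W (toW hW (↑v⁻¹ : R)) * (d : ResidueField W) = 1 := by
      rw [← map_natCast ((residue W).comp (toW hW)) d, ← RingHom.comp_apply, ← map_mul, ← hv,
        Units.inv_mul, map_one]
    linear_combination (-(residue W cW)) * h3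
  rw [residue_eq_zero_iff, ← valuation_lt_iff] at h2
  exact h2

variable {r : ℕ}

include hW hI in
/-- The maximal ideal of the integral closure in a finite extension. -/
theorem exists_structure (hr : 0 < r) (hrk : (r : ResidueField R) ≠ 0) (L : IntermediateField K Ω)
    (hL : Module.finrank K L = r) :
    (∀ P : Ideal (integralClosure R L), P.IsMaximal → P.ramificationIdx R = r) ∧
      ∀ π : R, Irreducible π → ∃ ϖ : L, W.valuation (ϖ : Ω) ^ r = W.valuation (algebraMap R Ω π) := by
  classical
  haveI : IsGalois K Ω := IsSepClosure.isGalois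
  haveI : FiniteDimensional K L := FiniteDimensional.of_finrank_pos (by omega)
  haveI : Algebra.IsSeparable K L := Algebra.isSeparable_tower_bot_of_isSeparable K L Ω
  let S := integralClosure R L
  haveI : Module.Finite R S := IsIntegralClosure.finite R K L S
  haveI : IsDedekindDomain S := IsIntegralClosure.isDedekindDomain R K L S
  haveI : Module.IsTorsionFree R S := Module.isTorsionFree_iff_algebraMap_injective.2 fun a b h => by
    have h' : algebraMap R L a = algebraMap R L b := congrArg Subtype.val h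
    rw [IsScalarTower.algebraMap_apply R K L, IsScalarTower.algebraMap_apply R K L] at h'
    exact IsFractionRing.injective R K ((algebraMap K L).injective h')
  haveI : Module.Free R S := inferInstance
  have hint : ∀ c : S, IsIntegral R ((c : L) : Ω) := fun c => c.2.map (L.val.restrictScalars R)
  let ι : S →+* W :=
    ((L.val.toRingHom).comp S.val.toRingHom).codRestrict W.toSubring fun c => mem_of_isIntegral hW (hint c)
  have hιR : ∀ a, ι (algebraMap R S a) = toW hW a := fun a => Subtype.ext rfl
  let P₀ : Ideal S := (maximalIdeal W).comap ι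
  haveI : P₀.IsPrime := Ideal.IsPrime.comap ι
  let m := maximalIdeal R
  have hP₀m : P₀.under R = m := by
    ext a
    show ι (algebraMap R S a) ∈ maximalIdeal W ↔ a ∈ m
    rw [hιR, ← valuation_lt_iff]
    exact valuation_lt hW a
  haveI : P₀.LiesOver m := ⟨hP₀m.symm⟩
  haveI : P₀.IsMaximal := Ideal.IsMaximal.of_liesOver_isMaximal P₀ m
  have huniq : ∀ P : Ideal S, P.IsMaximal → P = P₀ := fun P hP => by
    haveI := hP
    refine ((inferInstance : P₀.IsMaximal).eq_of_le hP.ne_top fun c hc => ?_).symm
    have hPm : P.under R = m := IsLocalRing.eq_maximalIdeal (Ideal.isMaximal_comap_of_isIntegral_of_isMaximal P)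
    have h := map_minpoly hW hI _ (hint c)
    have hres : residue W (⟨_, mem_of_isIntegral hW (hint c)⟩ : W) = 0 := (residue_eq_zero_iff _).2 hc
    rw [hres, map_zero, sub_zero] at h
    have hmem : ∀ i, i < (minpoly R ((c : L) : Ω)).natDegree → (minpoly R ((c : L) : Ω)).coeff i ∈ m := by
      intro i hi
      have h1 := congrArg (fun p => p.coeff i) h
      simp only [coeff_map, RingHom.comp_apply, coeff_X_pow, if_neg hi.ne, residue_eq_zero_iff] at h1
      exact (valuation_lt hW _).1 ((valuation_lt_iff _).2 h1)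
    let vv : S →ₐ[R] Ω := (L.val.restrictScalars R).comp S.val
    have hev : Polynomial.aeval c (minpoly R ((c : L) : Ω)) = 0 :=
      (map_eq_zero_iff vv (Subtype.val_injective.comp Subtype.val_injective)).1 (by
          rw [← Polynomial.aeval_algHom_apply]
          exact minpoly.aeval R _)
    rw [Polynomial.aeval_eq_sum_range, Finset.sum_range_succ,
      (minpoly.monic (hint c)).coeff_natDegree, one_smul] at hev
    refine hP.isPrime.mem_of_pow_mem ((minpoly R ((c : L) : Ω)).natDegree) ?_
    rw [eq_neg_of_add_eq_zero_right hev]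
    refine neg_mem (Ideal.sum_mem _ fun i hi => ?_)
    rw [Algebra.smul_def]
    refine P.mul_mem_right _ ?_
    show (minpoly R ((c : L) : Ω)).coeff i ∈ P.under R
    rw [hPm]
    exact hmem i (Finset.mem_range.1 hi)
  have hf : P₀.inertiaDeg R = 1 := by
    rw [Ideal.inertiaDeg_eq_of_isMaximal m P₀]
    have hb : Function.Bijective (algebraMap (R ⧸ m) (S ⧸ P₀)) := by
      letI := Ideal.Quotient.field m
      haveI : Nontrivial (S ⧸ P₀) := Ideal.Quotient.nontrivial_iff.2 (Ideal.IsPrime.ne_top inferInstance)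
      refine ⟨(algebraMap (R ⧸ m) (S ⧸ P₀)).injective, fun z => ?_⟩
      obtain ⟨c, rfl⟩ := Ideal.Quotient.mk_surjective z
      have hd : (((minpoly R ((c : L) : Ω)).natDegree : ℕ) : ResidueField R) ≠ 0 := fun h0 => by
        have hdvd : (minpoly R ((c : L) : Ω)).natDegree ∣ r := by
          rw [← hL, ← (minpoly.monic (hint c)).natDegree_map (algebraMap R K),
            ← minpoly.isIntegrallyClosed_eq_field_fractions' K (hint c),
            show minpoly K ((c : L) : Ω) = minpoly K (c : L) from minpoly.algHom_eq L.val Subtype.val_injective _]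
          exact minpoly.degree_dvd (IsIntegral.of_finite K _)
        obtain ⟨t, ht⟩ := hdvd
        exact hrk (by rw [ht, Nat.cast_mul, h0, zero_mul])
      obtain ⟨a, ha⟩ := exists_residue hW hI _ (hint c) hd
      refine ⟨Ideal.Quotient.mk m a, Ideal.Quotient.eq.2 ?_⟩
      show ι (algebraMap R S a - c) ∈ maximalIdeal W
      rw [← neg_sub, map_neg, neg_mem_iff, map_sub, hιR, ← valuation_lt_iff]
      exact ha
    rw [← (LinearEquiv.ofBijective (Algebra.linearMap (R ⧸ m) (S ⧸ P₀)) hb).finrank_eq, Module.finrank_self]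
  haveI : Subsingleton (m.primesOver S) := ⟨fun x y => Subtype.ext (by
    haveI := x.2.1; haveI := x.2.2; haveI := y.2.1; haveI := y.2.2
    rw [huniq x.1 (Ideal.IsMaximal.of_liesOver_isMaximal x.1 m), huniq y.1 (Ideal.IsMaximal.of_liesOver_isMaximal y.1 m)])⟩
  haveI : Fintype (m.primesOver S) := Fintype.ofSubsingleton ⟨P₀, inferInstance, inferInstance⟩
  haveI : Module.IsTorsionFree R L := Module.isTorsionFree_iff_algebraMap_injective.2 fun a b h => by
    rw [IsScalarTower.algebraMap_apply R K L, IsScalarTower.algebraMap_apply R K L] at h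
    exact IsFractionRing.injective R K ((algebraMap K L).injective h)
  have he : P₀.ramificationIdx R = r := by
    have h := Ideal.sum_ramification_inertia_eq_finrank m S
    rw [Fintype.sum_subsingleton _ ⟨P₀, inferInstance, inferInstance⟩, hf, mul_one, IsIntegralClosure.rank R K L S,
      hL] at h
    exact h
  refine ⟨fun P hP => by rw [huniq P hP, he], fun π hπ => ?_⟩
  haveI : IsLocalRing S := IsLocalRing.of_unique_max_ideal ⟨P₀, inferInstance, huniq⟩
  have hm0 : m ≠ ⊥ := IsDiscreteValuationRing.not_a_field R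
  have hP0 : P₀ ≠ ⊥ := Ideal.ne_bot_of_liesOver_of_ne_bot hm0 P₀
  haveI : IsDiscreteValuationRing S :=
    { not_a_field' := by rw [← IsLocalRing.eq_maximalIdeal ‹P₀.IsMaximal›]; exact hP0
      toIsPrincipalIdealRing := by
        have h := (tfae_of_isNoetherianRing_of_isLocalRing_of_isDomain S).out 2 0
        exact h.mp ‹IsDedekindDomain S› }
  obtain ⟨ρ, hρ⟩ := IsDiscreteValuationRing.exists_irreducible S
  have hπ0 : algebraMap R S π ≠ 0 := (map_ne_zero_iff _ (FaithfulSMul.algebraMap_injective R S)).2 hπ.ne_zero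
  obtain ⟨n, v, hv⟩ := IsDiscreteValuationRing.eq_unit_mul_pow_irreducible hπ0 hρ
  have hP₀ρ : P₀ = Ideal.span {ρ} := (IsLocalRing.eq_maximalIdeal ‹P₀.IsMaximal›).trans hρ.maximalIdeal_eq
  have hn : n = r := by
    rw [← he, ← Ideal.ramificationIdx'_eq_ramificationIdx m P₀ hm0]
    symm
    have hmap : m.map (algebraMap R S) = P₀ ^ n := by
      rw [show m = Ideal.span {π} from hπ.maximalIdeal_eq, Ideal.map_span, Set.image_singleton, hv, hP₀ρ,
        Ideal.span_singleton_pow, Ideal.span_singleton_mul_left_unit v.isUnit]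
    exact Ideal.ramificationIdx'_spec hmap.le fun h => by
      rw [hmap] at h
      exact (Ideal.pow_succ_lt_pow hP0 n).not_ge h
  refine ⟨(ρ : L), ?_⟩
  have h1 : algebraMap R Ω π = (ι v : Ω) * ((ρ : L) : Ω) ^ r := by
    rw [← hn, show algebraMap R Ω π = (ι (algebraMap R S π) : Ω) from (congrArg Subtype.val (hιR π)).symm, hv,
      map_mul, map_pow]
    rfl
  rw [h1, map_mul, map_pow, (W.valuation_eq_one_iff _).1 (v.isUnit.map ι), one_mul]

include hW hI in
theorem main (hr : 0 < r) (hrk : (r : ResidueField R) ≠ 0) :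
    (∃! L : IntermediateField K Ω, Module.finrank K L = r ∧ IsGalois K L) ∧
      ∀ L : IntermediateField K Ω, Module.finrank K L = r → IsGalois K L →
        ∀ P : Ideal (integralClosure R L), P.IsMaximal → P.ramificationIdx R = r := by
  classical
  haveI : IsGalois K Ω := IsSepClosure.isGalois
  haveI : IsSepClosed Ω := IsSepClosure.sep_closed K
  obtain ⟨π, hπ⟩ := IsDiscreteValuationRing.exists_irreducible R
  have hrR : IsUnit (r : R) := notMem_maximalIdeal.1 fun h => hrk (by
    rw [← map_natCast (residue R), residue_eq_zero_iff]; exact h)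
  have hrΩ : (r : Ω) ≠ 0 := by
    rw [← map_natCast (algebraMap R Ω)]; exact (hrR.map _).ne_zero
  have hfix : ∀ σ : Ω ≃ₐ[K] Ω, ∀ z : Ω, z ^ r = 1 → σ z = z := fun σ z hz => by
    refine fixed hW hI hrk σ z ((pow_eq_one_iff_of_nonneg zero_le hr.ne').1 ?_) (by rw [hz, map_one])
    rw [← map_pow, hz, map_one]
  obtain ⟨ρ, hρ⟩ := IsSepClosed.exists_pow_nat_eq (algebraMap R Ω π) r (hn := ⟨hrΩ⟩)
  have hπΩ : algebraMap R Ω π ≠ 0 := by
    rw [IsScalarTower.algebraMap_apply R K Ω]
    exact (_root_.map_ne_zero _).2 ((map_ne_zero_iff _ (IsFractionRing.injective R K)).2 hπ.ne_zero)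
  have hρ0 : ρ ≠ 0 := fun h => hπΩ (by rw [← hρ, h, zero_pow hr.ne'])
  let L₀ := IntermediateField.adjoin K ({ρ} : Set Ω)
  have hintρ : IsIntegral K ρ := Algebra.IsIntegral.isIntegral ρ
  have hdeg : Module.finrank K L₀ = r := by
    rw [IntermediateField.adjoin.finrank hintρ]
    let f : R[X] := X ^ r - C π
    have hfm : f.Monic := monic_X_pow_sub_C π hr.ne'
    have hirr : Irreducible f := by
      refine Polynomial.IsEisensteinAt.irreducible (𝓟 := maximalIdeal R) ?_ (maximalIdeal.isMaximal R).isPrime
        hfm.isPrimitive (by rw [natDegree_X_pow_sub_C]; exact hr)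
      refine ⟨?_, fun {i} hi => ?_, ?_⟩
      · rw [hfm.leadingCoeff]; exact fun h => (maximalIdeal.isMaximal R).ne_top ((Ideal.eq_top_iff_one _).2 h)
      · rw [natDegree_X_pow_sub_C] at hi
        rw [coeff_sub, coeff_X_pow, if_neg hi.ne, zero_sub, coeff_C]
        split_ifs
        · exact neg_mem (hπ.maximalIdeal_eq ▸ Ideal.mem_span_singleton_self π)
        · simp
      · rw [coeff_sub, coeff_X_pow, if_neg hr.ne, zero_sub, coeff_C_zero, hπ.maximalIdeal_eq,
          Ideal.span_singleton_pow, neg_mem_iff, Ideal.mem_span_singleton]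
        intro h
        have h2 : π * π ∣ π := by rwa [← sq]
        exact hπ.not_isUnit (isUnit_of_dvd_one ((mul_dvd_mul_iff_left hπ.ne_zero).1 (by rwa [mul_one])))
    rw [← minpoly.eq_of_irreducible_of_monic ((hfm.irreducible_iff_irreducible_map_fraction_map (K := K)).1 hirr)
      (x := ρ) (by simp [f, hρ, ← IsScalarTower.algebraMap_apply]) (hfm.map _), hfm.natDegree_map,
      natDegree_X_pow_sub_C]
  haveI : Normal K L₀ := IntermediateField.normal_iff_forall_map_le.2 fun σ => by
    rw [IntermediateField.map_le_iff_le_comap, IntermediateField.adjoin_le_iff, Set.singleton_subset_iff]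
    show σ ρ ∈ L₀
    have hω : (σ ρ / ρ) ^ r = 1 := by
      rw [div_pow, ← map_pow, hρ, IsScalarTower.algebraMap_apply R K Ω, AlgHom.commutes,
        ← IsScalarTower.algebraMap_apply R K Ω, div_self hπΩ]
    obtain ⟨t, ht⟩ := (InfiniteGalois.mem_range_algebraMap_iff_fixed _).2 fun g => hfix g _ hω
    rw [show σ ρ = algebraMap K Ω t * ρ by rw [ht, div_mul_cancel₀ _ hρ0]]
    exact mul_mem (L₀.algebraMap_mem t) (IntermediateField.mem_adjoin_simple_self K ρ)
  haveI : Algebra.IsSeparable K L₀ := Algebra.isSeparable_tower_bot_of_isSeparable K L₀ Ω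
  refine ⟨⟨L₀, ⟨hdeg, ⟨⟩⟩, fun L ⟨hL, hLg⟩ => ?_⟩, fun L hL _ => (exists_structure hW hI hr hrk L hL).1⟩
  obtain ⟨ϖ, hϖ⟩ := (exists_structure hW hI hr hrk L hL).2 π hπ
  obtain ⟨z, hz⟩ := IsSepClosed.exists_pow_nat_eq (algebraMap R Ω π / (ϖ : Ω) ^ r) r (hn := ⟨hrΩ⟩)
  have hϖv : W.valuation (ϖ : Ω) ^ r ≠ 0 := by rw [hϖ]; exact (Valuation.ne_zero_iff _).2 hπΩ
  have hzv : W.valuation z = 1 := (pow_eq_one_iff_of_nonneg zero_le hr.ne').1 (by
    rw [← map_pow, hz, map_div₀, map_pow, ← hϖ, div_self hϖv])
  have hzL : z ∈ L := by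
    rw [← InfiniteGalois.fixedField_fixingSubgroup L]
    rintro ⟨g, hg⟩
    refine fixed hW hI hrk g z hzv ?_
    rw [hz, map_div₀, map_pow, show g (ϖ : Ω) = (ϖ : Ω) from hg ⟨_, ϖ.2⟩, IsScalarTower.algebraMap_apply R K Ω, AlgEquiv.commutes]
  have hρL : ρ ∈ L := by
    have hϖ0 : (ϖ : Ω) ≠ 0 := fun h => hϖv (by rw [h, map_zero, zero_pow hr.ne'])
    let ω := ρ / (z * (ϖ : Ω))
    have hω : ω ^ r = 1 := by
      rw [div_pow, mul_pow, hz, div_mul_cancel₀ _ (pow_ne_zero _ hϖ0), hρ, div_self hπΩ]
    obtain ⟨t, ht⟩ := (InfiniteGalois.mem_range_algebraMap_iff_fixed ω).2 fun g => hfix g _ hω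
    have hz0 : z ≠ 0 := fun h => by simp [h] at hzv
    rw [show ρ = algebraMap K Ω t * (z * (ϖ : Ω)) by rw [ht]; exact (div_mul_cancel₀ _ (mul_ne_zero hz0 hϖ0)).symm]
    exact mul_mem (L.algebraMap_mem t) (mul_mem hzL ϖ.2)
  haveI : FiniteDimensional K L := FiniteDimensional.of_finrank_pos (by omega)
  exact (IntermediateField.eq_of_le_of_finrank_eq ((IntermediateField.adjoin_simple_le_iff).2 hρL) (hdeg.trans hL.symm)).symm

end Groth.Agent.TameUnique
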